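import Mathlib
import Groth.Agent.Lib.Helper5.ProjF.PiMap
import Groth.Agent.Lib.Helper4.TenSec1
import Groth.Agent.Lib.Lead.BCU4
import Groth.Agent.Lib.Lead.PBQc
import Groth.Agent.Lib.Helper1.PushQc

/-!
# The projection formula map of modules for an affine morphism (helper5)

For an affine morphism `j : W ⟶ X`, quasi-coherent modules `M` on `W` and `A` on `X`, the
projection formula map `j_* M ⊗ A ⟶ j_* (M ⊗ j^* A)` is an isomorphism.
-/
set_option backward.isDefEq.respectTransparency.types false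
set_option synthInstance.maxHeartbeats 400000
set_option autoImplicit false
set_option linter.unusedSectionVars false
set_option linter.unusedVariables false
set_option linter.style.haveILetI false
universe u
open CategoryTheory CategoryTheory.Limits AlgebraicGeometry TopologicalSpace Opposite TensorProduct

namespace Groth.Agent.Lib.Helper5.FBC

open Groth.Agent.Lib.Helper5.ProjF Groth.Agent.Lead.TilT Groth.Agent.Helper1.TmulLib
  Groth.Agent.Lead.BCU Groth.Agent.Helper1.QcCech

section Alg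

/-- if `l : N → N'` is a base change along `φ : R → S`, then `m ⊗ n ↦ m ⊗ l n` is a bijection
`M ⊗_R N → M ⊗_S N'` -/
theorem exists_addEquiv_of_isBC {R S : Type u} [CommRing R] [CommRing S] (φ : R →+* S)
    {M₁ M₂ N N' : Type u} [AddCommGroup M₁] [Module R M₁] [AddCommGroup M₂] [Module S M₂]
    [AddCommGroup N] [Module R N] [AddCommGroup N'] [Module S N']
    (μ : M₁ ≃+ M₂) (hμ : ∀ (r : R) (m : M₁), μ (r • m) = φ r • μ m)
    (l : N → N') (hl : IsBC φ l) :
    ∃ E : M₁ ⊗[R] N ≃+ M₂ ⊗[S] N', ∀ (m : M₁) (n : N), E (m ⊗ₜ n) = μ m ⊗ₜ l n := by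
  obtain ⟨l', hl', hb⟩ := hl
  letI : Algebra R S := φ.toAlgebra
  letI : Module R N' := Module.compHom N' φ
  haveI : IsScalarTower R S N' := ⟨fun a a' n => by
    change (φ a * a') • n = φ a • a' • n
    exact mul_smul _ _ _⟩
  letI : Module R M₂ := Module.compHom M₂ φ
  haveI : IsScalarTower R S M₂ := ⟨fun a a' n => by
    change (φ a * a') • n = φ a • a' • n
    exact mul_smul _ _ _⟩
  let μl : M₁ ≃ₗ[R] M₂ :=
    { μ with
      map_smul' := fun r m => hμ r m }
  let e0 : M₁ ⊗[R] N ≃ₗ[R] M₂ ⊗[R] N := TensorProduct.congr μl (LinearEquiv.refl R N)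
  let e1 : M₂ ⊗[S] (S ⊗[R] N) ≃ₗ[S] M₂ ⊗[R] N :=
    TensorProduct.AlgebraTensorModule.cancelBaseChange R S S M₂ N
  let e2 : M₂ ⊗[S] (S ⊗[R] N) ≃ₗ[S] M₂ ⊗[S] N' :=
    TensorProduct.congr (LinearEquiv.refl S M₂) hb.equiv
  refine ⟨e0.toAddEquiv.trans (e1.symm.toAddEquiv.trans e2.toAddEquiv), fun m n => ?_⟩
  show e2 (e1.symm (e0 (m ⊗ₜ n))) = μ m ⊗ₜ l n
  have h0 : e0 (m ⊗ₜ n) = μ m ⊗ₜ n := rfl
  have h1 : e1.symm (μ m ⊗ₜ[R] n) = μ m ⊗ₜ[S] ((1 : S) ⊗ₜ[R] n) := by
    rw [LinearEquiv.symm_apply_eq, TensorProduct.AlgebraTensorModule.cancelBaseChange_tmul,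
      one_smul]
  rw [h0, h1]
  show μ m ⊗ₜ hb.equiv (1 ⊗ₜ n) = _
  rw [IsBaseChange.equiv_tmul, one_smul, hl']

end Alg

section Geo

variable {W X : Scheme.{u}} (j : W ⟶ X) (M : W.Modules) (A : X.Modules)

/-- on an affine open, the projection formula map of an affine morphism is bijective -/
theorem bijective_piMap_app [IsAffineHom j] [M.IsQuasicoherent] [A.IsQuasicoherent]
    {V : X.Opens} (hV : IsAffineOpen V) :
    Function.Bijective ((piMap j M A).app V) := by
  haveI : ((Scheme.Modules.pushforward j).obj M).IsQuasicoherent :=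
    Groth.Agent.Helper1.PushQc.isQuasicoherent_pushforward j M
  haveI : ((Scheme.Modules.pullback j).obj A).IsQuasicoherent :=
    Groth.Agent.Lead.PB.isQuasicoherent_pullback j A
  have hV' : IsAffineOpen (j ⁻¹ᵁ V) := hV.preimage j
  have h1 := Groth.Agent.Lib.Helper4.TenSec1.toTₗ_bijective
    ((Scheme.Modules.pushforward j).obj M) A hV
  have h2 := Groth.Agent.Lib.Helper4.TenSec1.toTₗ_bijective M
    ((Scheme.Modules.pullback j).obj A) hV'
  have hbc := isBC_unitRes j A hV hV' (le_refl _)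
  obtain ⟨E, hE⟩ := exists_addEquiv_of_isBC (j.appLE V (j ⁻¹ᵁ V) (le_refl _)).hom
    (M₁ := Γ((Scheme.Modules.pushforward j).obj M, V)) (M₂ := Γ(M, j ⁻¹ᵁ V))
    (AddEquiv.refl _) (fun r m => by
      rw [← Scheme.Hom.app_eq_appLE]
      rfl) (unitRes j A (le_refl _)) hbc
  let P₀ : Type u := Γ((Scheme.Modules.pushforward j).obj
    ((DCoh.tensorBi.obj M).obj ((Scheme.Modules.pullback j).obj A)), V)
  let f1 : Γ((Scheme.Modules.pushforward j).obj M, V) ⊗[Γ(X, V)] Γ(A, V) →+ P₀ :=
    AddMonoidHom.comp (((piMap j M A).app V).hom : _ →+ P₀)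
      (toTₗ ((Scheme.Modules.pushforward j).obj M) A V).toAddMonoidHom
  let f2 : Γ((Scheme.Modules.pushforward j).obj M, V) ⊗[Γ(X, V)] Γ(A, V) →+ P₀ :=
    AddMonoidHom.comp
      ((toTₗ M ((Scheme.Modules.pullback j).obj A) (j ⁻¹ᵁ V)).toAddMonoidHom : _ →+ P₀)
      E.toAddMonoidHom
  have key : ∀ x, f1 x = f2 x := by
    intro x
    induction x using TensorProduct.induction_on with
    | zero => rw [map_zero, map_zero]
    | tmul m a =>
      show (piMap j M A).app V (tm ((Scheme.Modules.pushforward j).obj M) A V m a) =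
        toTₗ M ((Scheme.Modules.pullback j).obj A) (j ⁻¹ᵁ V) (E (m ⊗ₜ a))
      rw [hE, piMap_tm]
      show _ = tm M ((Scheme.Modules.pullback j).obj A) (j ⁻¹ᵁ V) m (unitRes j A (le_refl _) a)
      have hu : unitRes j A (le_refl (j ⁻¹ᵁ V)) a = (ppUnit j A).app V a :=
        res_self ((Scheme.Modules.pullback j).obj A) (le_refl (j ⁻¹ᵁ V)) _
      rw [hu]
    | add x y hx hy => rw [map_add, map_add, hx, hy]
  have h3 : Function.Bijective ((piMap j M A).app V ∘
      (toTₗ ((Scheme.Modules.pushforward j).obj M) A V)) := by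
    have h4 : Function.Bijective f2 := h2.comp E.bijective
    have h5 : (f1 : _ → P₀) = f2 := funext key
    rw [← h5] at h4
    exact h4
  exact (Function.Bijective.of_comp_iff _ h1).1 h3

/-- **the projection formula for an affine morphism and quasi-coherent modules** -/
theorem isIso_piMap_of_isAffineHom [IsAffineHom j] [M.IsQuasicoherent] [A.IsQuasicoherent] :
    IsIso (piMap j M A) := by
  apply isIso_of_bijective_nhds
  intro U x hx
  obtain ⟨_, ⟨V, hV : IsAffineOpen V, rfl⟩, hxV, hVU⟩ :=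
    X.isBasis_affineOpens.exists_subset_of_mem_open hx U.2
  exact ⟨V, hVU, hxV, bijective_piMap_app j M A hV⟩

end Geo

end Groth.Agent.Lib.Helper5.FBC
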