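import Mathlib
import Groth.Agent.Lib.Helper5.FBC.Main
import Groth.Agent.Lib.Helper5.BC.Local
import Groth.Agent.Lib.Lead.FB1

/-!
# The underived base change map is local on the base (helper5)
-/
set_option backward.isDefEq.respectTransparency.types false
set_option synthInstance.maxHeartbeats 400000
set_option autoImplicit false
set_option linter.unusedSectionVars false
set_option linter.unusedVariables false
set_option linter.style.haveILetI false
universe u
open CategoryTheory CategoryTheory.Limits AlgebraicGeometry Pretriangulated TopologicalSpace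
attribute [local instance] HasDerivedCategory.standard

namespace Groth.Agent.Lib.Helper5.FBC

open Groth.Agent.Lib.Helper5.BC Groth.Agent.Lib.Helper5.LpullLib Groth.Agent.Helper3.KInjDer
open Groth.Agent.Lib.Helper5.QC Groth.Agent.Helper1

section HPaste

variable {X Y X' Y' X'' Y'' : Scheme.{u}} {f : X ⟶ Y} {g : Y' ⟶ Y} {f' : X' ⟶ Y'} {g' : X' ⟶ X}
  {u : Y'' ⟶ Y'} {f'' : X'' ⟶ Y''} {u' : X'' ⟶ X'}

/-- **horizontal pasting for the underived base change map** -/
theorem betaK_hpaste (w : g' ≫ f = f' ≫ g) (w' : u' ≫ f' = f'' ≫ u)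
    (W : (u' ≫ g') ≫ f = f'' ≫ (u ≫ g)) (U : HomotopyCategory X.Modules (ComplexShape.up ℤ)) :
    betaK W U = (cL u g).inv.app ((DCoh.Rpush f).obj (DerivedCategory.Qh.obj U)) ≫
      (DCoh.Lpull u).map (betaK w U) ≫ betaK w' ((pullK g').obj U) ≫
      (DCoh.Rpush f'').map (DerivedCategory.Qh.map ((pcK' u' g' (u' ≫ g') rfl).hom.app U)) := by
  have hk := cL'_kap u' g' (u' ≫ g') rfl U
  have hc : (cL' u' g' (u' ≫ g') rfl).hom = (cL u' g').hom := by
    simp [cL']
  rw [hc] at hk
  have hn := (theta w').naturality (kap g' U)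
  dsimp only [Functor.comp_obj, Functor.comp_map] at hn
  have e1 : (DCoh.Rpush f'').map ((cL u' g').hom.app (DerivedCategory.Qh.obj U)) ≫
      (DCoh.Rpush f'').map (kap (u' ≫ g') U) =
      (DCoh.Rpush f'').map ((DCoh.Lpull u').map (kap g' U)) ≫
      (DCoh.Rpush f'').map (kap u' ((pullK g').obj U)) ≫
      (DCoh.Rpush f'').map (DerivedCategory.Qh.map ((pcK' u' g' (u' ≫ g') rfl).hom.app U)) := by
    rw [← Functor.map_comp, hk, Functor.map_comp, Functor.map_comp]
  have e2 : (theta w').app ((DCoh.Lpull g').obj (DerivedCategory.Qh.obj U)) ≫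
      (DCoh.Rpush f'').map ((cL u' g').hom.app (DerivedCategory.Qh.obj U)) ≫
      (DCoh.Rpush f'').map (kap (u' ≫ g') U) =
      (DCoh.Lpull u).map ((DCoh.Rpush f').map (kap g' U)) ≫
      (theta w').app (DerivedCategory.Qh.obj ((pullK g').obj U)) ≫
      (DCoh.Rpush f'').map (kap u' ((pullK g').obj U)) ≫
      (DCoh.Rpush f'').map (DerivedCategory.Qh.map ((pcK' u' g' (u' ≫ g') rfl).hom.app U)) := by
    rw [e1, ← Category.assoc, ← hn, Category.assoc]
  unfold betaK
  rw [theta_hpaste w w' W]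
  simp only [Functor.map_comp, Category.assoc]
  rw [e2]

end HPaste

variable {X Y X' Y' : Scheme.{u}} {f : X ⟶ Y} {g : Y' ⟶ Y} {f' : X' ⟶ Y'} {g' : X' ⟶ X}

/-- `betaK` only depends on the morphisms -/
theorem isIso_betaK_congr {g₁ g₂ : Y' ⟶ Y} {g₁' g₂' : X' ⟶ X} (hg : g₁ = g₂) (hg' : g₁' = g₂')
    (w₁ : g₁' ≫ f = f' ≫ g₁) (w₂ : g₂' ≫ f = f' ≫ g₂)
    (P : HomotopyCategory X.Modules (ComplexShape.up ℤ)) :
    IsIso (betaK w₁ P) ↔ IsIso (betaK w₂ P) := by
  subst hg hg'
  exact Iff.rfl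

/-- `betaK` is an isomorphism for base change along open immersions -/
theorem isIso_betaK_of_isOpenImmersion (hsq : IsPullback g' f' f g) [IsOpenImmersion g]
    [IsOpenImmersion g'] (C : CochainComplex X.Modules ℤ) :
    IsIso (betaK hsq.w ((HomotopyCategory.quotient X.Modules (ComplexShape.up ℤ)).obj C)) := by
  unfold betaK
  haveI := isIso_theta_of_isOpenImmersion hsq
    (DerivedCategory.Qh.obj ((HomotopyCategory.quotient X.Modules (ComplexShape.up ℤ)).obj C))
  haveI : IsIso (kap g' ((HomotopyCategory.quotient X.Modules (ComplexShape.up ℤ)).obj C)) :=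
    isIso_kap_of_flat g' C
  infer_instance

section Restricted

variable (hsq : IsPullback g' f' f g) (U : Y.Opens) (U' : Y'.Opens) (hU' : U' ≤ g ⁻¹ᵁ U)

/-- **locality of the underived base change map** -/
theorem isIso_lpull_betaK_iff (C : CochainComplex X.Modules ℤ) :
    IsIso ((DCoh.Lpull U'.ι).map
        (betaK hsq.w ((HomotopyCategory.quotient X.Modules (ComplexShape.up ℤ)).obj C))) ↔
      IsIso (betaK (isPullback_restrict hsq U U' hU').w
        ((HomotopyCategory.quotient _ (ComplexShape.up ℤ)).obj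
          (((Scheme.Modules.pullback (f ⁻¹ᵁ U).ι).mapHomologicalComplex
            (ComplexShape.up ℤ)).obj C))) := by
  let P := (HomotopyCategory.quotient X.Modules (ComplexShape.up ℤ)).obj C
  have hτ := (isPullback_morphismRestrict f' U').flip
  have hν := (isPullback_morphismRestrict f U).flip
  -- first decomposition
  have W₁ : ((f' ⁻¹ᵁ U').ι ≫ g') ≫ f = (f' ∣_ U') ≫ (U'.ι ≫ g) := by
    rw [Category.assoc, hsq.w, ← Category.assoc, hτ.w, Category.assoc]
  have p1 := betaK_hpaste hsq.w hτ.w W₁ P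
  haveI t1 : IsIso (betaK hτ.w ((pullK g').obj P)) :=
    isIso_betaK_of_isOpenImmersion hτ
      (((Scheme.Modules.pullback g').mapHomologicalComplex (ComplexShape.up ℤ)).obj C)
  have i1 : IsIso (betaK W₁ P) ↔ IsIso ((DCoh.Lpull U'.ι).map (betaK hsq.w P)) := by
    rw [p1]
    constructor
    · intro h
      have h2 : IsIso ((DCoh.Lpull U'.ι).map (betaK hsq.w P) ≫
          (betaK hτ.w ((pullK g').obj P) ≫
            (DCoh.Rpush (f' ∣_ U')).map (DerivedCategory.Qh.map
              ((pcK' (f' ⁻¹ᵁ U').ι g' ((f' ⁻¹ᵁ U').ι ≫ g') rfl).hom.app P)))) :=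
        IsIso.of_isIso_comp_left ((cL U'.ι g).inv.app
          ((DCoh.Rpush f).obj (DerivedCategory.Qh.obj P))) _
      exact IsIso.of_isIso_comp_right _ (betaK hτ.w ((pullK g').obj P) ≫
            (DCoh.Rpush (f' ∣_ U')).map (DerivedCategory.Qh.map
              ((pcK' (f' ⁻¹ᵁ U').ι g' ((f' ⁻¹ᵁ U').ι ≫ g') rfl).hom.app P)))
    · intro h
      infer_instance
  -- second decomposition
  have hσ := isPullback_restrict hsq U U' hU'
  have W₂ : (gRes' hsq U U' hU' ≫ (f ⁻¹ᵁ U).ι) ≫ f = (f' ∣_ U') ≫ (g.resLE U U' hU' ≫ U.ι) := by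
    rw [Category.assoc, hν.w, ← Category.assoc, hσ.w, Category.assoc]
  have p2 := betaK_hpaste hν.w hσ.w W₂ P
  haveI t2 : IsIso (betaK hν.w P) := isIso_betaK_of_isOpenImmersion hν C
  have i2 : IsIso (betaK W₂ P) ↔ IsIso (betaK hσ.w ((pullK (f ⁻¹ᵁ U).ι).obj P)) := by
    rw [p2]
    constructor
    · intro h
      have h2 : IsIso ((DCoh.Lpull (g.resLE U U' hU')).map (betaK hν.w P) ≫
          (betaK hσ.w ((pullK (f ⁻¹ᵁ U).ι).obj P) ≫
            (DCoh.Rpush (f' ∣_ U')).map (DerivedCategory.Qh.map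
              ((pcK' (gRes' hsq U U' hU') (f ⁻¹ᵁ U).ι
                (gRes' hsq U U' hU' ≫ (f ⁻¹ᵁ U).ι) rfl).hom.app P)))) :=
        IsIso.of_isIso_comp_left ((cL (g.resLE U U' hU') U.ι).inv.app
          ((DCoh.Rpush f).obj (DerivedCategory.Qh.obj P))) _
      have h3 : IsIso (betaK hσ.w ((pullK (f ⁻¹ᵁ U).ι).obj P) ≫
            (DCoh.Rpush (f' ∣_ U')).map (DerivedCategory.Qh.map
              ((pcK' (gRes' hsq U U' hU') (f ⁻¹ᵁ U).ι
                (gRes' hsq U U' hU' ≫ (f ⁻¹ᵁ U).ι) rfl).hom.app P))) :=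
        IsIso.of_isIso_comp_left ((DCoh.Lpull (g.resLE U U' hU')).map (betaK hν.w P)) _
      exact IsIso.of_isIso_comp_right _
        ((DCoh.Rpush (f' ∣_ U')).map (DerivedCategory.Qh.map
              ((pcK' (gRes' hsq U U' hU') (f ⁻¹ᵁ U).ι
                (gRes' hsq U U' hU' ≫ (f ⁻¹ᵁ U).ι) rfl).hom.app P)))
    · intro h
      infer_instance
  have i3 : IsIso (betaK W₁ P) ↔ IsIso (betaK W₂ P) :=
    isIso_betaK_congr (Scheme.Hom.resLE_comp_ι g hU').symm
      (Scheme.Hom.resLE_comp_ι g' (preimage_le hsq U U' hU')).symm W₁ W₂ P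
  rw [← i1, i3]
  exact i2

end Restricted

/-- **the underived base change map is an isomorphism if it is so locally on `Y` and `Y'`** -/
theorem isIso_betaK_of_local (hsq : IsPullback g' f' f g) (C : CochainComplex X.Modules ℤ)
    (h : ∀ y' : Y', ∃ (U : Y.Opens) (U' : Y'.Opens) (hU' : U' ≤ g ⁻¹ᵁ U), y' ∈ U' ∧
      IsIso (betaK (isPullback_restrict hsq U U' hU').w
        ((HomotopyCategory.quotient _ (ComplexShape.up ℤ)).obj
          (((Scheme.Modules.pullback (f ⁻¹ᵁ U).ι).mapHomologicalComplex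
            (ComplexShape.up ℤ)).obj C)))) :
    IsIso (betaK hsq.w ((HomotopyCategory.quotient X.Modules (ComplexShape.up ℤ)).obj C)) := by
  apply isIso_of_isIso_lpull_cover
  intro y'
  obtain ⟨U, U', hU', hy', hiso⟩ := h y'
  refine ⟨U', U'.ι, inferInstance, ?_, ?_⟩
  · simpa using hy'
  · exact (isIso_lpull_betaK_iff hsq U U' hU' C).2 hiso

/-- **base change for a bounded above complex of quasi-coherent modules flat over an arbitrary
base** -/
theorem isIso_betaK_of_flat_gen (hsq : IsPullback g' f' f g) [QuasiCompact f]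
    [IsSeparated f] (P : CochainComplex X.Modules ℤ)
    (hq : ∀ i : ℤ, (P.X i).IsQuasicoherent) (hfl : ∀ i : ℤ, FlatMod.IsFlatOver f (P.X i))
    (b : ℤ) (hb : ∀ i : ℤ, b < i → IsZero (P.X i)) :
    IsIso (betaK hsq.w ((HomotopyCategory.quotient X.Modules (ComplexShape.up ℤ)).obj P)) := by
  apply isIso_betaK_of_local hsq P
  intro y'
  obtain ⟨U, hU, hyU⟩ : ∃ U : Y.Opens, IsAffineOpen U ∧ g.base y' ∈ U := by
    obtain ⟨_, ⟨U, hU, rfl⟩, hy, -⟩ := Y.isBasis_affineOpens.exists_subset_of_mem_open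
      (Set.mem_univ (g.base y')) isOpen_univ
    exact ⟨U, hU, hy⟩
  refine ⟨U, g ⁻¹ᵁ U, le_rfl, hyU, ?_⟩
  haveI : IsAffine (U : Scheme.{u}) := hU
  have hν := (isPullback_morphismRestrict f U).flip
  haveI : QuasiCompact (f ∣_ U) := MorphismProperty.of_isPullback hν inferInstance
  haveI : IsSeparated (f ∣_ U) := MorphismProperty.of_isPullback hν inferInstance
  have hqU : ∀ i : ℤ, ((((Scheme.Modules.pullback (f ⁻¹ᵁ U).ι).mapHomologicalComplex
      (ComplexShape.up ℤ)).obj P).X i).IsQuasicoherent := fun i => by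
    haveI := hq i
    exact QcPullGen.isQuasicoherent_pullback (f ⁻¹ᵁ U).ι (P.X i)
  have hflU : ∀ i : ℤ, FlatMod.IsFlatOver (f ∣_ U)
      ((((Scheme.Modules.pullback (f ⁻¹ᵁ U).ι).mapHomologicalComplex
        (ComplexShape.up ℤ)).obj P).X i) := fun i x' => by
    haveI := hq i
    exact Groth.Agent.Lead.FB.flat_baseChange hν (P.X i) x' (hfl i _)
  have hbU : ∀ i : ℤ, b < i → IsZero ((((Scheme.Modules.pullback (f ⁻¹ᵁ U).ι).mapHomologicalComplex
      (ComplexShape.up ℤ)).obj P).X i) := fun i hi =>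
    Functor.map_isZero (Scheme.Modules.pullback (f ⁻¹ᵁ U).ι) (hb i hi)
  exact isIso_betaK_of_flat (isPullback_restrict hsq U (g ⁻¹ᵁ U) le_rfl) _ hqU hflU b hbU

end Groth.Agent.Lib.Helper5.FBC
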