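import Mathlib
import Groth.Prelude.Def_HTor
import Groth.Agent.Lib.Helper5.FBC.Kunneth
import Groth.Agent.Lib.Helper5.FBC.Local

/-!
# The Künneth formula over an arbitrary base, derived form (helper5)
-/
set_option backward.isDefEq.respectTransparency.types false
set_option synthInstance.maxHeartbeats 400000
set_option autoImplicit false
set_option linter.unusedSectionVars false
set_option linter.unusedVariables false
set_option linter.style.haveILetI false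
universe u
open CategoryTheory CategoryTheory.Limits AlgebraicGeometry Pretriangulated TopologicalSpace
attribute [local instance] HasDerivedCategory.standard

namespace Groth.Agent.Lib.Helper5.FBC

open Groth.Agent.Lib.Helper5.BC Groth.Agent.Lib.Helper5.LpullLib Groth.Agent.Helper3.KInjDer
open Groth.Agent.Lib.Helper5.PullTenNat Groth.Agent.Lib.Helper5.ProjF
open Groth.Agent.Lib.Helper5.RHomQC Helper5.Gen Groth.Agent.Helper1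
open Groth.Agent.Lib.Helper5.QC Groth.Agent.Lib.Helper5.HTorLib Groth.Agent.Lib.Helper5.FibStalk
open Groth.Agent.Lib.Helper5.ProjF3

/-- **Künneth formula over an arbitrary base, derived form** -/
theorem nonempty_kunneth_gen {X₁ X₂ S : Scheme.{u}} (f₁ : X₁ ⟶ S) (f₂ : X₂ ⟶ S)
    [QuasiCompact f₁] [IsSeparated f₁] [QuasiCompact f₂] [IsSeparated f₂]
    (P₁ : CochainComplex X₁.Modules ℤ) (P₂ : CochainComplex X₂.Modules ℤ)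
    (hq₁ : ∀ i : ℤ, Coh.IsQCoh (P₁.X i)) (hq₂ : ∀ i : ℤ, Coh.IsQCoh (P₂.X i))
    (b₁ : ∃ b : ℤ, ∀ i : ℤ, b < i → IsZero (P₁.X i))
    (hfl : ∀ i : ℤ, FlatMod.IsFlatOver f₁ (P₁.X i))
    (E₂ : CochainComplex S.Modules ℤ)
    (hE₂ : Nonempty (DCoh.toD S E₂ ≅ (DCoh.Rpush f₂).obj (DCoh.toD X₂ P₂)))
    [DCoh.HasLTensorCx E₂] :
    Nonempty ((DCoh.Rpush (pullback.fst f₁ f₂ ≫ f₁)).obj
        (DCoh.toD _ (HTor.extTensorCx f₁ f₂ P₁ P₂)) ≅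
      (DCoh.LTensorCx E₂).obj ((DCoh.Rpush f₁).obj (DCoh.toD X₁ P₁))) := by
  classical
  obtain ⟨bp₁, hbp₁⟩ := b₁
  obtain ⟨hE₂⟩ := hE₂
  let p₁ := pullback.fst f₁ f₂
  let p₂ := pullback.snd f₁ f₂
  have hsq : IsPullback p₁ p₂ f₁ f₂ := IsPullback.of_hasPullback f₁ f₂
  have hP₁q : DCoh.IsQCohD (DCoh.toD X₁ P₁) :=
    (isQCohD_Q_iff P₁).2 (isQuasicoherent_homology_of_terms P₁ hq₁)
  have hP₂q : DCoh.IsQCohD (DCoh.toD X₂ P₂) :=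
    (isQCohD_Q_iff P₂).2 (isQuasicoherent_homology_of_terms P₂ hq₂)
  have hRq₁ : DCoh.IsQCohD ((DCoh.Rpush f₁).obj (DCoh.toD X₁ P₁)) := isQCohD_rpush f₁ _ hP₁q
  haveI : DCoh.HasLTensorCx P₂ := Groth.Agent.Lib.Helper5.LTenAll.hasLTensorCx _
  -- a complex representing `Rf₁_* P₁` and a K-flat resolution of it
  obtain ⟨K₁, ⟨k₁⟩⟩ : ∃ K₁ : CochainComplex S.Modules ℤ,
      Nonempty (DCoh.toD S K₁ ≅ (DCoh.Rpush f₁).obj (DCoh.toD X₁ P₁)) :=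
    ⟨_, ⟨DerivedCategory.Q.objObjPreimageIso _⟩⟩
  obtain ⟨F₁, γ, hF₁, hγ⟩ := kflat_res K₁
  haveI : IsIso (DerivedCategory.Q.map γ) := (DerivedCategory.isIso_Q_map_iff_quasiIso _ _).2 hγ
  let κ : DCoh.toD S F₁ ≅ (DCoh.Rpush f₁).obj (DCoh.toD X₁ P₁) :=
    asIso (DerivedCategory.Q.map γ) ≪≫ k₁
  have hF₁q : DCoh.IsQCohD (DCoh.toD S F₁) := isQCohD_of_iso κ.symm hRq₁
  -- first half
  obtain ⟨u1⟩ := nonempty_rpush_extTensor_iso f₁ f₂ P₁ P₂ hq₁ hq₂ bp₁ hbp₁ hfl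
  -- Theorem B
  haveI hB : IsIso (betaK hsq.w ((HomotopyCategory.quotient X₁.Modules (ComplexShape.up ℤ)).obj P₁)) :=
    isIso_betaK_of_flat_gen hsq P₁ hq₁ hfl bp₁ hbp₁
  let G₁ := (HTor.pullCx p₁).obj P₁
  let β : (DCoh.Lpull f₂).obj ((DCoh.Rpush f₁).obj (DCoh.toD X₁ P₁)) ≅
      (DCoh.Rpush p₂).obj (DCoh.toD _ G₁) :=
    @asIso _ _ _ _
      (betaK hsq.w ((HomotopyCategory.quotient X₁.Modules (ComplexShape.up ℤ)).obj P₁)) hB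
  let N := ((Scheme.Modules.pullback f₂).mapHomologicalComplex (ComplexShape.up ℤ)).obj F₁
  have hN : DCoh.IsKFlat N := Groth.Agent.Lib.Helper5.KFlatPull.isKFlat_pullback f₂ _ hF₁
  let w₁ : DCoh.toD _ N ≅ (DCoh.Rpush p₂).obj (DCoh.toD _ G₁) :=
    (Groth.Agent.Lib.Helper5.ProjF.lpullObjIsoKF f₂ F₁ hF₁).symm ≪≫
      (DCoh.Lpull f₂).mapIso κ ≪≫ β
  let u2 : (DCoh.LTensorCx P₂).obj ((DCoh.Rpush p₂).obj (DCoh.toD _ G₁)) ≅
      DCoh.toD _ ((DCoh.tensorCx.obj N).obj P₂) :=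
    (DCoh.LTensorCx P₂).mapIso w₁.symm ≪≫
      Groth.Agent.Lib.Helper5.LTenAll.ltensorObjIsoOfKFlat (E := P₂) N hN
  -- second half
  let br : (DCoh.tensorCx.obj N).obj P₂ ≅ (DCoh.tensorCx.obj P₂).obj N :=
    Groth.Agent.Lib.Helper5.KFlatG.braid (ModSite.tensorBi X₂.sheaf)
      (Groth.Agent.Lib.Helper5.KFlatSiteQ.flipIso X₂.sheaf) N P₂
  haveI : DCoh.HasLTensorCx N := Groth.Agent.Lib.Helper5.LTenAll.hasLTensorCx _
  haveI : DCoh.HasLTensorCx F₁ := Groth.Agent.Lib.Helper5.LTenAll.hasLTensorCx _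
  obtain ⟨r1'⟩ := Groth.Agent.Lib.Helper5.LTenTri.nonempty_ltensor_iso N N hN (𝟙 _) inferInstance P₂
  let eM' : DCoh.toD _ N ≅ (DCoh.Lpull f₂).obj (DCoh.toD _ F₁) :=
    (Groth.Agent.Lib.Helper5.ProjF.lpullObjIsoKF f₂ F₁ hF₁).symm
  obtain ⟨pfi'⟩ := nonempty_projFormula_qcoh f₂ (DCoh.toD X₂ P₂) hP₂q F₁ hF₁q N ⟨eM'⟩
  -- derived symmetry on the base
  obtain ⟨s1⟩ := Groth.Agent.Lib.Helper5.LTenTri.nonempty_ltensor_iso F₁ F₁ hF₁ (𝟙 _) inferInstance E₂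
  let brS : (DCoh.tensorCx.obj E₂).obj F₁ ≅ (DCoh.tensorCx.obj F₁).obj E₂ :=
    Groth.Agent.Lib.Helper5.KFlatG.braid (ModSite.tensorBi S.sheaf)
      (Groth.Agent.Lib.Helper5.KFlatSiteQ.flipIso S.sheaf) E₂ F₁
  let s2 : (DCoh.LTensorCx E₂).obj (DCoh.toD S F₁) ≅ DCoh.toD S ((DCoh.tensorCx.obj F₁).obj E₂) :=
    Groth.Agent.Lib.Helper5.LTenAll.ltensorObjIsoOfKFlat (E := E₂) F₁ hF₁
  let v : (DCoh.Rpush f₂).obj (DCoh.toD _ ((DCoh.tensorCx.obj N).obj P₂)) ≅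
      (DCoh.LTensorCx E₂).obj ((DCoh.Rpush f₁).obj (DCoh.toD X₁ P₁)) :=
    (DCoh.Rpush f₂).mapIso (DerivedCategory.Q.mapIso br ≪≫ r1'.symm) ≪≫ pfi'.symm ≪≫
      (DCoh.LTensorCx F₁).mapIso hE₂.symm ≪≫ s1 ≪≫ DerivedCategory.Q.mapIso brS ≪≫ s2.symm ≪≫
      (DCoh.LTensorCx E₂).mapIso κ
  exact ⟨rpushCongrObj (pullback.condition (f := f₁) (g := f₂)) _ ≪≫ (rC p₂ f₂).app _ ≪≫
    (DCoh.Rpush f₂).mapIso (u1 ≪≫ u2) ≪≫ v⟩

end Groth.Agent.Lib.Helper5.FBC
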